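import Groth.Agent.AmpleVan.IdealCrit
import Groth.Agent.QCoh.ExtendFT
import Groth.Agent.AmpleX.Generated
import Groth.Agent.AmpleX.Separated
import Groth.Agent.ResPropLib.Ample
import Groth.Agent.SymX.ProjectiveStable
import Groth.Agent.Algz7.Restrict
import Groth.Agent.H23.ModLoc
import Groth.Prelude.Def_LCI2

/-!
# Relative ampleness and the counit of the direct image adjunction
-/

set_option linter.style.haveILetI false
set_option backward.isDefEq.respectTransparency false
set_option backward.isDefEq.respectTransparency.types false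

universe u

open CategoryTheory CategoryTheory.Limits AlgebraicGeometry TopologicalSpace Opposite

noncomputable section

namespace Groth.Agent.AmpleVan.CounitEpi

open Groth.Agent
open Groth.Agent.H23.PicMul

/-- Global sections separating morphisms into skyscrapers generate. -/
theorem generatedBy_of_sep {X : Scheme.{u}} {L : X.Modules}
    (h : ∀ (Z : X.Modules) (g : L ⟶ Z), (∀ t, g.app ⊤ t = 0) → g = 0) :
    ProjUP.GeneratedBy L fun t : Γ(L, ⊤) => t := by
  intro x
  let R := X.presheaf.stalk x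
  let S : Submodule R (L.presheaf.stalk x) := Submodule.span R (Set.range fun t : Γ(L, ⊤) =>
    (L.presheaf.germ ⊤ x trivial).hom t)
  let N : ModuleCat.{u} R := ModuleCat.of R (L.presheaf.stalk x ⧸ S)
  let g : L ⟶ KFlatLib.skyObjM x N :=
    ⟨{ app := fun V => ModuleCat.ofHom (Y := KFlatLib.skyObj x N V)
        { toFun := fun a h => (S.mkQ ((L.presheaf.germ V.unop x h.down).hom a) : N)
          map_add' := fun a b => funext fun h => by
            show S.mkQ ((L.presheaf.germ V.unop x h.down).hom (a + b)) = _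
            exact ((congrArg S.mkQ (map_add (L.presheaf.germ V.unop x h.down).hom a b)).trans
              (map_add S.mkQ _ _))
          map_smul' := fun r a => funext fun h => by
            show S.mkQ ((L.presheaf.germ V.unop x h.down).hom (r • a)) =
              (X.presheaf.germ V.unop x h.down r) • (S.mkQ ((L.presheaf.germ V.unop x h.down).hom a) : N)
            exact ((congrArg S.mkQ (QCoh.germ_smul' L h.down r a)).trans
              (map_smul S.mkQ _ _)) }
       naturality := fun {V W} i => by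
         ext a
         funext h
         exact congrArg S.mkQ (L.presheaf.germ_res_apply i.unop x h.down a) }⟩
  have hg0 : g = 0 := h _ g fun t => funext fun hx => by
    show S.mkQ ((L.presheaf.germ ⊤ x hx.down).hom t) = 0
    rw [Submodule.mkQ_apply, Submodule.Quotient.mk_eq_zero]
    exact Submodule.subset_span ⟨t, rfl⟩
  refine eq_top_iff.2 fun m _ => ?_
  obtain ⟨U, hxU, e, rfl⟩ := L.presheaf.exists_germ_eq (x := x) m
  rw [← Submodule.Quotient.mk_eq_zero]
  have := congrArg (fun φ => (φ : L ⟶ KFlatLib.skyObjM x N).app U e) hg0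
  exact congrFun this ⟨hxU⟩

theorem push_map_eq_zero {X Y : Scheme.{u}} (f : X ⟶ Y) (G Z : X.Modules) (φ : G ⟶ Z)
    [Epi ((Scheme.Modules.pullbackPushforwardAdjunction f).counit.app G)]
    (h : (Scheme.Modules.pushforward f).map φ = 0) : φ = 0 := by
  let adj := Scheme.Modules.pullbackPushforwardAdjunction f
  rw [← cancel_epi (adj.counit.app G), comp_zero]
  refine (adj.homEquiv _ _).injective ?_
  rw [adj.homEquiv_unit, adj.homEquiv_unit, (Scheme.Modules.pushforward f).map_comp, h, comp_zero]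
  simp

variable {X Y : Scheme.{u}} (f : X ⟶ Y)

/-- An epimorphic counit gives generating sections over the preimage of an affine open. -/
theorem generated_of_counit_epi [QuasiCompact f] [QuasiSeparated f] {G : X.Modules} (hG : Coh.IsQCoh G)
    [Epi ((Scheme.Modules.pullbackPushforwardAdjunction f).counit.app G)] (V : Y.affineOpens) :
    ProjUP.GeneratedBy (G.restrict (f ⁻¹ᵁ V.1).ι)
      fun t : Γ(G.restrict (f ⁻¹ᵁ V.1).ι, ⊤) => t := by
  let W := f ⁻¹ᵁ V.1
  refine generatedBy_of_sep fun Z g hg => ?_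
  let adj := Scheme.Modules.restrictAdjunction W.ι
  let g' : G ⟶ (Scheme.Modules.pushforward W.ι).obj Z :=
    adj.unit.app G ≫ (Scheme.Modules.pushforward W.ι).map g
  suffices h : g' = 0 by
    refine (adj.homEquiv _ _).injective ?_
    rw [adj.homEquiv_unit, adj.homEquiv_unit]
    show g' = _
    rw [h, Functor.map_zero, comp_zero]
  have h0 : ∀ (O : (W : Scheme.{u}).Opens), O = ⊤ → ∀ t, g.app O t = 0 := by
    rintro O rfl t; exact hg t
  have htop : ∀ T : Γ(G, W), g'.app W T = 0 := fun T => h0 _ W.ι_preimage_self _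
  refine push_map_eq_zero f _ _ g' ?_
  refine QCoh.hom_ext_app fun U t => ?_
  show g'.app (f ⁻¹ᵁ U) t = 0
  refine QCoh.eq_zero_of_locally (M := Z) (W.ι ⁻¹ᵁ (f ⁻¹ᵁ U))
    (show Γ(Z, W.ι ⁻¹ᵁ (f ⁻¹ᵁ U)) from g'.app (f ⁻¹ᵁ U) t) fun w hw => ?_
  obtain ⟨r, hr, hwr⟩ := V.2.exists_basicOpen_le (V := U) ⟨f (W.ι w), hw⟩ (show f (W.ι w) ∈ V.1 from w.2)
  let D := Y.basicOpen r
  obtain ⟨n, T, hT⟩ := QCoh.exists_pow_smul_eq_map (QCoh.isQCoh_pushforward f hG) V.2 r
    (((Scheme.Modules.pushforward f).obj G).presheaf.map (homOfLE hr).op t)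
  refine ⟨W.ι ⁻¹ᵁ (f ⁻¹ᵁ D), homOfLE fun z hz => hr hz, hwr, ?_⟩
  have hzero : ((Scheme.Modules.pushforward f).map g').app D
      (Y.presheaf.map (homOfLE (Y.basicOpen_le r)).op r ^ n •
        ((Scheme.Modules.pushforward f).obj G).presheaf.map (homOfLE hr).op t) = 0 := by
    rw [← hT, QCoh.map_app_comm]
    refine (congrArg _ (htop T)).trans ?_
    exact map_zero _
  rw [Scheme.Modules.Hom.app_smul] at hzero
  have hu : IsUnit (Y.presheaf.map (homOfLE (Y.basicOpen_le r)).op r ^ n) :=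
    (RingedSpace.isUnit_res_basicOpen Y.toRingedSpace r).pow n
  have hz := hu.smul_eq_zero.1 hzero
  rw [QCoh.map_app_comm] at hz
  exact hz

theorem cl_restrict (W : X.Opens) (G : X.Modules) :
    PicF.cl (G.restrict W.ι) = PicF.pullCl W.ι (PicF.cl G) :=
  cl_eq_iff.2 ⟨(Scheme.Modules.restrictFunctorIsoPullback W.ι).app G⟩

theorem cl_restrict_twist (W : X.Opens) (F L : X.Modules) (n : ℕ) :
    PicF.cl (CohB1.tensorMod (F.restrict W.ι) (CohB1.tensorPow (L.restrict W.ι) n)) =
      PicF.cl ((CohB1.tensorMod F (CohB1.tensorPow L n)).restrict W.ι) := by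
  rw [cl_tensor, cl_tensorPow, cl_restrict, cl_restrict, cl_restrict, cl_tensor, cl_tensorPow, pullCl_mul, pullCl_pow]

theorem isInvertible_restrict {L : X.Modules} (hL : PicF.IsInvertible L) (W : X.Opens) :
    PicF.IsInvertible (L.restrict W.ι) :=
  AmpleX.isInvertible_restrict W.ι hL

/-- Relative ampleness from epimorphic counits on twisted ideals. -/
theorem isRelAmple_of_counit [CompactSpace X] [QuasiSeparatedSpace X] [QuasiCompact f] [QuasiSeparated f]
    {L : X.Modules} (hL : PicF.IsInvertible L)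
    (h : ∀ (J : X.Modules) (i : J ⟶ Coh.structureModule X), Mono i → Coh.IsQCoh J → CohB1.IsFT J →
      ∃ n : ℕ, 0 < n ∧
        Epi ((Scheme.Modules.pullbackPushforwardAdjunction f).counit.app
          (CohB1.tensorMod J (CohB1.tensorPow L n)))) :
    RelAmple.IsRelAmple f L := by
  refine ⟨inferInstance, fun V => ?_⟩
  let W := f ⁻¹ᵁ V.1
  have hWc : IsCompact (W : Set X) := f.isCompact_preimage V.2.isCompact
  haveI : CompactSpace W.toScheme := isCompact_iff_compactSpace.1 hWc
  haveI : QuasiSeparatedSpace W.toScheme :=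
    (isQuasiSeparated_iff_quasiSeparatedSpace _ W.isOpen).1
      (f.isQuasiSeparated_preimage V.2.isQuasiSeparated)
  refine IdealCrit.isAmple_of_ideals (isInvertible_restrict hL W) fun I hI => ?_
  haveI : Mono (ClSub.idealModι I) := inferInstanceAs (Mono (kernel.ι _))
  have hOq : Coh.IsQCoh (Coh.structureModule W.toScheme) := QCoh.isQCoh_structureModule
  have hIq : Coh.IsQCoh (ClSub.idealMod I) :=
    QCoh.isQCoh_kernel hOq (QCoh.isQCoh_pushforward I.subschemeι QCoh.isQCoh_structureModule) _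
  have hIt : CohB1.IsFT (ClSub.idealMod I) := (QCoh.isFT_iff hIq).2 fun U => by
    haveI : Module.Finite Γ(W.toScheme, U.1) (I.ideal U) := Module.Finite.iff_fg.2 (hI U)
    let φ : Γ(ClSub.idealMod I, U.1) →ₗ[Γ(W.toScheme, U.1)] I.ideal U :=
      { toFun := fun k => ⟨OmegaSh.idealSect I U.1 k, OmegaLib.idealSect_mem I U k⟩
        map_add' := fun a b => Subtype.ext (map_add _ a b)
        map_smul' := fun r k => Subtype.ext (OmegaLib.idealSect_smul I U.1 r k) }
    have hφ : Function.Bijective φ :=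
      ⟨fun a b hab => OmegaLib.idealSect_injective I U.1 (congrArg Subtype.val hab),
        fun y => (OmegaLib.exists_of_mem I U y.1 y.2).imp fun k hk => Subtype.ext hk⟩
    exact Module.Finite.equiv (LinearEquiv.ofBijective φ hφ).symm
  obtain ⟨p, hpU, hsup, hstep⟩ := QCoh.extStep_qcqs (X := X) hWc
  let i₀ : ClSub.idealMod I ⟶ (Coh.structureModule X).restrict W.ι :=
    ClSub.idealModι I ≫ (Scheme.Modules.restrictUnitIso W.ι).inv
  haveI : Mono i₀ := mono_comp _ _
  obtain ⟨J, i, e, hi, hJq, hJt, -⟩ := QCoh.exists_extension i₀ QCoh.isQCoh_structureModule hIq hIt p hpU hsup hstep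
  obtain ⟨n, hn, hE⟩ := h J i hi hJq hJt
  obtain ⟨m, rfl⟩ : ∃ m, n = m + 1 := ⟨n - 1, by omega⟩
  have hTq := InvX.isInvertible_tensorPow hL (m + 1)
  have hT : Coh.IsQCoh (CohB1.tensorPow L (m + 1)) := ProjUPX.isQCoh_of_isInvertible hTq
  have hGq := SymX.isQCoh_tensorMod hJq hT
  have hC := CurveTensor.isCoh_tensor (H23.PullPush.isFinLocFree_of_isInvertible hTq) (show Coh.IsCoh J from ⟨hJq, hJt⟩)
  have hGt := (QCoh.isCoh_of_epi (CurveTensor.commIso (CohB1.tensorPow L (m + 1)) J).hom hC hGq).2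
  have hgen := generated_of_counit_epi f hGq V
  let G := (CohB1.tensorMod J (CohB1.tensorPow L (m + 1))).restrict W.ι
  haveI : SheafOfModules.IsFiniteType (R := W.toScheme.ringCatSheaf) G := Algz7.isFT_restrict (f := W.ι) hGq hGt
  obtain ⟨k, t, ht⟩ := ResPropLib.exists_fin_generatedBy G (fun x => FDescent.finite_stalk G x) hgen
  obtain ⟨q, hq⟩ := InvX.exists_epi_freeMod ht
  obtain ⟨ψ⟩ : Nonempty (G ≅ CohB1.tensorMod (ClSub.idealMod I) (CohB1.tensorPow (L.restrict W.ι) (m + 1))) := by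
    refine cl_eq_iff.1 ((cl_restrict_twist W J L (m + 1)).symm.trans ?_)
    rw [cl_tensor, cl_tensor, cl_eq_iff.2 ⟨e⟩]
  exact ⟨m, k, q ≫ ψ.hom, inferInstance⟩

/-- Over an affine open, large twists are generated by the sections over it. -/
theorem aux {L : X.Modules} (hamp : RelAmple.IsRelAmple f L) {F : X.Modules} (hF : Coh.IsQCoh F)
    (hFt : CohB1.IsFT F) (V : Y.affineOpens) :
    ∃ N : ℕ, ∀ n, N ≤ n → ∀ (Z : X.Modules) (φ ψ : CohB1.tensorMod F (CohB1.tensorPow L n) ⟶ Z),
      (∀ s, φ.app (f ⁻¹ᵁ V.1) s = ψ.app (f ⁻¹ᵁ V.1) s) →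
      (Scheme.Modules.restrictFunctor (f ⁻¹ᵁ V.1).ι).map φ = (Scheme.Modules.restrictFunctor (f ⁻¹ᵁ V.1).ι).map ψ := by
  let W : X.Opens := f ⁻¹ᵁ V.1
  haveI : CompactSpace W.toScheme := (hamp.2 V).2.1
  haveI := AmpleX.isSeparated_of_isAmple (hamp.2 V)
  obtain ⟨N, hN⟩ := AmpleX.eventually_generated (hamp.2 V)
    (QCoh.isQCoh_restrict W.ι hF) (Algz7.isFT_restrict (f := W.ι) hF hFt)
  refine ⟨N, fun n hn Z φ ψ h => ?_⟩
  obtain ⟨G, e, ι, s, hs⟩ := hN n hn
  obtain ⟨e'⟩ : Nonempty (G ≅ (CohB1.tensorMod F (CohB1.tensorPow L n)).restrict W.ι) :=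
    cl_eq_iff.1 ((cl_eq_iff.2 ⟨e⟩).trans (cl_restrict_twist W F L n))
  have hW : W.ι ''ᵁ (⊤ : W.toScheme.Opens) = W := by simp
  have key : ∀ t, φ.app (W.ι ''ᵁ ⊤) t = ψ.app (W.ι ''ᵁ ⊤) t := by
    rw [hW]
    exact h
  have h2 : e'.hom ≫ (Scheme.Modules.restrictFunctor W.ι).map φ = e'.hom ≫ (Scheme.Modules.restrictFunctor W.ι).map ψ :=
    InvX.hom_ext_of_generated hs fun i => key (e'.hom.app ⊤ (s i))
  exact (cancel_epi e'.hom).1 h2

/-- Relative ampleness gives eventually epimorphic counits. -/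
theorem eventually_epi_counit [CompactSpace X] {L : X.Modules} (hamp : RelAmple.IsRelAmple f L)
    {F : X.Modules} (hF : Coh.IsQCoh F) (hFt : CohB1.IsFT F) :
    ∃ N : ℕ, ∀ n : ℕ, N ≤ n →
      Epi ((Scheme.Modules.pullbackPushforwardAdjunction f).counit.app
        (CohB1.tensorMod F (CohB1.tensorPow L n))) := by
  classical
  choose N hN using aux f hamp hF hFt
  obtain ⟨T, hcov⟩ := isCompact_univ.elim_finite_subcover
    (fun V : Y.affineOpens => ((f ⁻¹ᵁ V.1 : X.Opens) : Set X)) (fun V => (f ⁻¹ᵁ V.1).isOpen) fun x _ => by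
      obtain ⟨V, hV, hxV⟩ := QCoh.exists_affine_mem (f x)
      exact Set.mem_iUnion.2 ⟨⟨V, hV⟩, hxV⟩
  refine ⟨T.sup N, fun n hn => ⟨fun {Z} φ ψ h => ?_⟩⟩
  have heq : (Scheme.Modules.pushforward f).map φ = (Scheme.Modules.pushforward f).map ψ := by
    let adj := Scheme.Modules.pullbackPushforwardAdjunction f
    have hpush : ∀ χ : CohB1.tensorMod F (CohB1.tensorPow L n) ⟶ Z,
        adj.unit.app _ ≫ (Scheme.Modules.pushforward f).map (adj.counit.app _ ≫ χ) =
        (Scheme.Modules.pushforward f).map χ := fun χ => by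
      rw [(Scheme.Modules.pushforward f).map_comp]
      exact adj.right_triangle_components_assoc _ _
    rw [← hpush φ, ← hpush ψ]
    exact congrArg (fun χ => adj.unit.app _ ≫ (Scheme.Modules.pushforward f).map χ) h
  refine H23.ModLoc.hom_ext_of_locally φ ψ fun x => ?_
  obtain ⟨V, hV, hxV⟩ := Set.mem_iUnion₂.1 (hcov (Set.mem_univ x))
  exact ⟨f ⁻¹ᵁ V.1, hxV, hN V n (le_trans (Finset.le_sup (f := N) hV) hn) Z φ ψ fun s => congr(($heq).app V.1 s)⟩

end Groth.Agent.AmpleVan.CounitEpi
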