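import Groth.Agent.AmpleVan.Criterion
import Groth.Agent.QCoh.SerreFT
import Groth.Agent.QCoh.AnnIdeal
import Groth.Agent.OmegaLib.IdealMod
import Groth.Agent.InvX.GenEpi
import Groth.Agent.KFlatLib.Scheme.Sky
import Groth.Agent.QCoh.TensorUnit
import Groth.Prelude.Def_ClSub2
import Groth.Prelude.Def_BlowUp2
import Groth.Prelude.Def_FlatMod2

/-!
# Ampleness from ideals of finite type whose twists are quotients of free modules
-/

set_option linter.style.haveILetI false
set_option backward.isDefEq.respectTransparency false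
set_option backward.isDefEq.respectTransparency.types false

universe u

open CategoryTheory CategoryTheory.Limits AlgebraicGeometry TopologicalSpace Opposite

noncomputable section

namespace Groth.Agent.AmpleVan.IdealCrit

open Groth.Agent InvX Groth.Agent.AmpleVan
open Groth.Agent.H23.PicMul

/-- An epimorphism from copies of the structure module gives generating sections. -/
theorem generatedBy_of_epi {X : Scheme.{u}} {L : X.Modules} {ι : Type} (p : (∐ fun _ : ι => Coh.structureModule X) ⟶ L)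
    [Epi p] : ProjUP.GeneratedBy L fun i => InvX.one (Sigma.ι (fun _ : ι => Coh.structureModule X) i ≫ p) := by
  intro x
  let R := X.presheaf.stalk x
  let S : Submodule R (L.presheaf.stalk x) := Submodule.span R (Set.range fun i =>
    (L.presheaf.germ ⊤ x trivial).hom (InvX.one (Sigma.ι (fun _ : ι => Coh.structureModule X) i ≫ p)))
  let N : ModuleCat.{u} R := ModuleCat.of R (L.presheaf.stalk x ⧸ S)
  let g : L ⟶ KFlatLib.skyObjM x N :=
    ⟨{ app := fun V => ModuleCat.ofHom (Y := KFlatLib.skyObj x N V)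
        { toFun := fun a h => (S.mkQ ((L.presheaf.germ V.unop x h.down).hom a) : N)
          map_add' := fun a b => funext fun h => by
            show S.mkQ ((L.presheaf.germ V.unop x h.down).hom (a + b)) = _
            exact ((congrArg S.mkQ (map_add (L.presheaf.germ V.unop x h.down).hom a b)).trans
              (map_add S.mkQ _ _))
          map_smul' := fun r a => funext fun h => by
            show S.mkQ ((L.presheaf.germ V.unop x h.down).hom (r • a)) =
              (X.presheaf.germ V.unop x h.down r) • (S.mkQ ((L.presheaf.germ V.unop x h.down).hom a) : N)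
            exact ((congrArg S.mkQ (QCoh.germ_smul' L h.down r a)).trans
              (map_smul S.mkQ _ _)) }
       naturality := fun {V W} i => by
         ext a
         funext h
         exact congrArg S.mkQ (L.presheaf.germ_res_apply i.unop x h.down a) }⟩
  have hg0 : g = 0 := by
    rw [← cancel_epi p, Limits.comp_zero]
    refine Sigma.hom_ext _ _ fun i => ?_
    rw [Limits.comp_zero, ← Category.assoc]
    refine QCoh.hom_ext_app fun V a => funext fun h => ?_
    show S.mkQ ((L.presheaf.germ V x h.down).hom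
      ((Sigma.ι (fun _ : ι => Coh.structureModule X) i ≫ p).app V a)) = 0
    rw [Submodule.mkQ_apply, Submodule.Quotient.mk_eq_zero]
    rw [show (Sigma.ι (fun _ : ι => Coh.structureModule X) i ≫ p).app V a =
      (show Γ(X, V) from a) • AModX.res L (le_top : V ≤ ⊤)
        (InvX.one (Sigma.ι (fun _ : ι => Coh.structureModule X) i ≫ p)) from InvX.app_eq_smul _ _]
    rw [QCoh.germ_smul' L h.down]
    refine Submodule.smul_mem _ _ ?_
    rw [show (L.presheaf.germ V x h.down).hom (AModX.res L (le_top : V ≤ ⊤)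
        (InvX.one (Sigma.ι (fun _ : ι => Coh.structureModule X) i ≫ p))) =
      (L.presheaf.germ ⊤ x trivial).hom (InvX.one (Sigma.ι (fun _ : ι => Coh.structureModule X) i ≫ p))
      from L.presheaf.germ_res_apply (homOfLE le_top) x h.down _]
    exact Submodule.subset_span ⟨i, rfl⟩
  refine eq_top_iff.2 fun m _ => ?_
  obtain ⟨U, hxU, e, rfl⟩ := L.presheaf.exists_germ_eq (x := x) m
  rw [← Submodule.Quotient.mk_eq_zero]
  have := congrArg (fun φ => (φ : L ⟶ KFlatLib.skyObjM x N).app U e) hg0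
  exact congrFun this ⟨hxU⟩

variable {X : Scheme.{u}} {L : X.Modules}

/-- An affine open is avoided by an ideal of finite type containing one on it. -/
theorem exists_ideal [CompactSpace X] [QuasiSeparatedSpace X] {U : X.Opens} (hU : IsAffineOpen U) :
    ∃ (I : X.IdealSheafData) (c : ClSub.idealMod I ⟶ (QCoh.vanIdeal (U : Set X)ᶜ).toModules)
      (e : Γ(ClSub.idealMod I, U)), BlowUp.IsFiniteTypeIdeal I ∧
        (c ≫ (QCoh.vanIdeal (U : Set X)ᶜ).ι).app U e = (show Γ(Coh.structureModule X, U) from (1 : Γ(X, U))) := by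
  let Z : Set X := (U : Set X)ᶜ
  let V := QCoh.vanIdeal Z
  have hone : (show Γ(Coh.structureModule X, U) from (1 : Γ(X, U))) ∈ V.mem U :=
    fun z hz hzb => hz (X.basicOpen_le _ hzb)
  obtain ⟨e₁, he₁⟩ := V.exists_app_eq hone
  obtain ⟨A, j, _, hA, hAt, hj⟩ := QCoh.SerreFT.exists_ft_containing (QCoh.isQCoh_vanIdeal Z)
    (fun _ : PUnit.{u+1} => U) (fun _ => hU) (fun _ => e₁)
  obtain ⟨w, hw⟩ := hj ⟨⟩
  let a : A ⟶ Coh.structureModule X := j ≫ V.ι
  haveI : Mono a := mono_comp _ _
  have hOq := QCoh.isQCoh_structureModule (X := X)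
  have hQ := QCoh.isQCoh_cokernel hA hOq a
  have hOt : CohB1.IsFT (Coh.structureModule X) := (QCoh.isFT_iff hOq).2 fun W =>
    (inferInstance : Module.Finite Γ(X, W.1) Γ(X, W.1))
  have hQt : CohB1.IsFT (cokernel a) := (QCoh.isFT_iff hQ).2 fun W => by
    haveI := QCoh.finite_of_isFT hOq hOt W.2
    exact Module.Finite.of_surjective (QCoh.appLin (cokernel.π a) W.1)
      (QCoh.app_surjective_of_epi hOq hQ (cokernel.π a) W.2)
  let I := QCoh.annIdeal hQ hQt
  have hI : ∀ (W : X.affineOpens) (r : Γ(X, W.1)), r ∈ I.ideal W ↔ ∃ t, a.app W.1 t = r := by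
    intro W r
    have hr : (show Γ(Coh.structureModule X, W.1) from r) =
        r • (show Γ(Coh.structureModule X, W.1) from (1 : Γ(X, W.1))) := (mul_one r).symm
    show r ∈ Module.annihilator _ _ ↔ _
    rw [Module.mem_annihilator]
    constructor
    · intro h
      refine (QCoh.mem_range_iff_cokernel a W.1 _).1 ?_
      rw [hr, Scheme.Modules.Hom.app_smul]
      exact h _
    · rintro ⟨t, ht⟩ m
      obtain ⟨y, rfl⟩ := QCoh.app_surjective_of_epi hOq hQ (cokernel.π a) W.2 m
      rw [← Scheme.Modules.Hom.app_smul]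
      refine (QCoh.mem_range_iff_cokernel a W.1 _).2 ⟨QCoh.toFn y • t, ?_⟩
      show a.app W.1 _ = _
      rw [Scheme.Modules.Hom.app_smul, ht]
      exact mul_comm (QCoh.toFn y) r
  have hft : BlowUp.IsFiniteTypeIdeal I := fun W => by
    haveI := QCoh.finite_of_isFT hA hAt W.2
    let φ : Γ(A, W.1) →ₗ[Γ(X, W.1)] Γ(X, W.1) := QCoh.appLin a W.1
    have : I.ideal W = LinearMap.range φ := Submodule.ext fun r => (hI W r).trans Iff.rfl
    rw [this, LinearMap.range_eq_map]
    exact Module.Finite.fg_top.map φ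
  haveI : Mono (ClSub.idealModι I) := inferInstanceAs (Mono (kernel.ι _))
  have hIq : Coh.IsQCoh (ClSub.idealMod I) :=
    QCoh.isQCoh_kernel hOq (QCoh.isQCoh_pushforward I.subschemeι QCoh.isQCoh_structureModule) _
  have hle : Subobject.mk (ClSub.idealModι I) ≤ Subobject.mk V.ι := by
    refine QCoh.subobject_le_of_cover hIq (QCoh.isQCoh_vanIdeal Z) hOq _ _ (fun W : X.affineOpens => W.1)
      (fun W => W.2) (fun x => by obtain ⟨W, hW, hxW⟩ := QCoh.exists_affine_mem x; exact ⟨⟨W, hW⟩, hxW⟩) ?_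
    rintro W _ ⟨k, rfl⟩
    obtain ⟨t, ht⟩ := (hI W _).1 (OmegaLib.idealSect_mem I W k)
    exact ⟨j.app W.1 t, ht⟩
  let c := Subobject.ofMkLEMk _ _ hle
  have hc : c ≫ V.ι = ClSub.idealModι I := Subobject.ofMkLEMk_comp hle
  obtain ⟨k, hk⟩ := OmegaLib.exists_of_mem I ⟨U, hU⟩ (1 : Γ(X, U)) ((hI ⟨U, hU⟩ _).2 ⟨w, by
    show V.ι.app U (j.app U w) = _
    rw [hw, he₁]⟩)
  exact ⟨I, c, k, hft, (congrArg (fun φ => Scheme.Modules.Hom.app φ U k) hc).trans hk⟩

/-- Ampleness from twisted ideals of finite type being quotients of free modules. -/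
theorem isAmple_of_ideals [CompactSpace X] [QuasiSeparatedSpace X] (hL : PicF.IsInvertible L)
    (h : ∀ I : X.IdealSheafData, BlowUp.IsFiniteTypeIdeal I →
      ∃ (n k : ℕ) (p : FlatMod.freeMod X k ⟶ CohB1.tensorMod (ClSub.idealMod I) (CohB1.tensorPow L (n + 1))),
        Epi p) : CohB1.IsAmple L := by
  refine ⟨hL, inferInstance, fun x => ?_⟩
  obtain ⟨U₀, hxU₀, e₀, he₀⟩ := exists_frame hL x
  obtain ⟨_, ⟨U, hU₀, rfl⟩, hxU, hle⟩ :=
    X.isBasis_affineOpens.exists_subset_of_mem_open (show x ∈ U₀ from hxU₀) U₀.2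
  have hU : IsAffineOpen U := hU₀
  let Z : Set X := (U : Set X)ᶜ
  obtain ⟨I, c, e₁, hIft, he₁⟩ := exists_ideal hU
  obtain ⟨n, k, p, hp⟩ := h I hIft
  let N := CohB1.tensorPow L (n + 1)
  have hN : PicF.IsInvertible N := InvX.isInvertible_tensorPow hL _
  let ι := (QCoh.vanIdeal Z).ι
  let φ := (tw N).map (c ≫ ι)
  let σ : Fin k → (Coh.structureModule X ⟶ (tw N).obj (Coh.structureModule X)) :=
    fun i => Sigma.ι (fun _ : Fin k => Coh.structureModule X) i ≫ p ≫ φ
  have hF : PicF.IsInvertible ((tw N).obj (Coh.structureModule X)) :=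
    isInvertible_tensorMod isInvertible_structureModule hN
  let τ : Γ(N, U) := AmpleX.powElt (AModX.res L (show U ≤ U₀ from hle) e₀) (n + 1)
  let fr : Γ((tw N).obj (Coh.structureModule X), U) :=
    tmul (show Γ(Coh.structureModule X, U) from (1 : Γ(X, U))) τ
  have hfr : IsFrame fr := isFrame_tmul (isFrame_one U) (AmpleX.isFrame_powElt (he₀.res _) _)
  have hval : φ.app U (tmul e₁ τ) = fr :=
    (map_tmul_left (c ≫ ι) e₁ τ).trans (congrArg (fun z => tmul z τ) he₁)
  have hsU : ∀ i, CohB1.genLocus _ (σ i) ≤ U := fun i z hz => by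
    by_contra hzU
    obtain ⟨W, hzW, hW⟩ := InvX.mem_genLocus hz
    let T : Γ((tw N).obj (QCoh.vanIdeal Z).toModules, ⊤) :=
      one (Sigma.ι (fun _ : Fin k => Coh.structureModule X) i ≫ p ≫ (tw N).map c)
    have hs : InvX.one (σ i) = ((tw N).map ι).app ⊤ T := by
      show InvX.one (_ ≫ p ≫ (tw N).map (c ≫ ι)) = _
      rw [Functor.map_comp]
      rfl
    rw [hs, ← AModX.app_res] at hW
    have hm := twMap_ι_mem hzU N hzW (AModX.res _ (le_top : W ≤ ⊤) T)
    have h1 := coord_mem_maximalIdeal hzW hW (one_smul _ _).symm hm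
    rw [map_one] at h1
    exact (IsLocalRing.maximalIdeal.isMaximal (X.presheaf.stalk z)).ne_top ((Ideal.eq_top_iff_one _).2 h1)
  have hg : ∀ i, ∃ g : Γ(X, U), AModX.res _ (le_top : U ≤ ⊤) (InvX.one (σ i)) = g • fr ∧
      CohB1.genLocus _ (σ i) = X.basicOpen g := fun i => by
    obtain ⟨g, hg⟩ := hfr.exists_coord le_rfl (AModX.res _ (le_top : U ≤ ⊤) (InvX.one (σ i)))
    rw [AModX.res_self] at hg
    have hgl := InvX.genLocus_inf (σ i) hfr hg
    rw [inf_eq_left.2 (hsU i)] at hgl
    exact ⟨g, hg, hgl⟩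
  choose g hg hgl using hg
  obtain ⟨i, hi⟩ : ∃ i, x ∈ X.basicOpen (g i) := by
    by_contra! hno
    have hgen := generatedBy_of_epi p x
    let f := (KFlatLib.stalkP x).map (DCoh.toP.map φ)
    let P := Submodule.comap f.hom (vanAt ((tw N).obj (Coh.structureModule X)) x)
    have hmem : germM _ hxU (tmul e₁ τ) ∈ P := by
      refine Submodule.span_le.2 ?_ (hgen.ge Submodule.mem_top)
      rintro _ ⟨i, rfl⟩
      let T := InvX.one (Sigma.ι (fun _ : Fin k => Coh.structureModule X) i ≫ p)
      show f.hom (germM _ (show x ∈ (⊤ : X.Opens) from trivial) T) ∈ vanAt _ x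
      have h1 : f.hom (germM _ (show x ∈ (⊤ : X.Opens) from trivial) T) =
          germM _ (show x ∈ (⊤ : X.Opens) from trivial) (φ.app ⊤ T) :=
        KFlatLib.stalkModMap_germ (DCoh.toP.map φ) ⊤ trivial T
      have h2 : germM _ (show x ∈ (⊤ : X.Opens) from trivial) (φ.app ⊤ T) =
          germM _ hxU (AModX.res _ (le_top : U ≤ ⊤) (InvX.one (σ i))) :=
        (TopCat.Presheaf.germ_res_apply _ (homOfLE le_top) x hxU _).symm
      have h3 : germM _ hxU (g i • fr) = X.presheaf.germ U x hxU (g i) • germM _ hxU fr :=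
        KFlatLib.germP_smul (P := DCoh.toP.obj ((tw N).obj (Coh.structureModule X))) U hxU (g i) fr
      rw [h1, h2, hg, h3]
      exact Submodule.smul_mem_smul ((QCoh.notMem_basicOpen_iff _ x hxU).1 (hno i)) trivial
    have h4 : germM _ hxU fr ∈ vanAt ((tw N).obj (Coh.structureModule X)) x := by
      have h5 : f.hom (germM _ hxU (tmul e₁ τ)) = germM _ hxU fr :=
        (KFlatLib.stalkModMap_germ (DCoh.toP.map φ) U hxU _).trans (congrArg (germM _ hxU) hval)
      exact h5 ▸ hmem
    have h6 := coord_mem_maximalIdeal hxU hfr (one_smul Γ(X, U) fr).symm h4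
    rw [map_one] at h6
    exact (IsLocalRing.maximalIdeal.isMaximal (X.presheaf.stalk x)).ne_top ((Ideal.eq_top_iff_one _).2 h6)
  obtain ⟨ψ⟩ : Nonempty ((tw N).obj (Coh.structureModule X) ≅ N) := cl_eq_iff.1 (by
    show PicF.cl (CohB1.tensorMod _ N) = _
    rw [cl_tensor, ← H23.PicMul.one_def, one_mul])
  refine ⟨n, σ i ≫ ψ.hom, ?_⟩
  rw [InvX.genLocus_comp_iso (σ i) ψ, hgl i]
  exact ⟨hi, hU.basicOpen _⟩

end Groth.Agent.AmpleVan.IdealCrit
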