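import Groth.Agent.AmpleVan.CounitEpi
import Groth.Agent.AmpleX.QAHom
import Groth.Agent.AmpleX.QAGenerated
import Groth.Prelude.Def_Mor2

/-!
# Quasi-affine morphisms and the counit
-/

set_option linter.style.haveILetI false
set_option backward.isDefEq.respectTransparency false
set_option backward.isDefEq.respectTransparency.types false

universe u

open CategoryTheory CategoryTheory.Limits AlgebraicGeometry TopologicalSpace Opposite

noncomputable section

namespace Groth.Agent.AmpleVan.QAEpi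

open Groth.Agent InvX Groth.Agent.AmpleVan

variable {X Y : Scheme.{u}} (f : X ⟶ Y)

/-- Morphisms out of a globally generated module are determined on global sections. -/
theorem hom_ext_of_isGloballyGenerated {F Z : X.Modules} (h : Curv2.IsGloballyGenerated F) (φ ψ : F ⟶ Z)
    (he : ∀ t, φ.app ⊤ t = ψ.app ⊤ t) : φ = ψ := by
  obtain ⟨ι, p, hp⟩ := h
  rw [← cancel_epi p]
  refine (SheafOfModules.freeHomEquiv Z).injective (funext fun i => Subtype.ext (funext fun W => ?_))
  let T := SheafOfModules.freeHomEquiv F p i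
  have ha := (SheafOfModules.sectionsMap φ T).property (homOfLE (le_top : W.unop ≤ ⊤)).op
  have hb := (SheafOfModules.sectionsMap ψ T).property (homOfLE (le_top : W.unop ≤ ⊤)).op
  rw [SheafOfModules.freeHomEquiv_comp_apply, SheafOfModules.freeHomEquiv_comp_apply]
  exact ha.symm.trans ((congrArg (Z.val.map (homOfLE (le_top : W.unop ≤ ⊤)).op) (he (T.val (op ⊤)))).trans hb)

theorem isSeparated_of_isQuasiAffine (h : Mor2.IsQuasiAffine f) : IsSeparated f := by
  refine (IsZariskiLocalAtTarget.iff_of_iSup_eq_top (P := @IsSeparated) (fun V : Y.affineOpens => V.1)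
    (iSup_affineOpens_eq_top Y)).2 fun V => ?_
  haveI := h.2 V.1 V.2
  haveI : (f ⁻¹ᵁ V.1 : Scheme.{u}).IsSeparated :=
    (Scheme.isSeparated_iff _).2 (by
      rw [← terminal.comp_from (f ⁻¹ᵁ V.1).toScheme.toSpecΓ]
      infer_instance)
  exact inferInstanceAs (IsSeparated (f ∣_ V.1))

theorem epi_counit_of_isQuasiAffine (h : Mor2.IsQuasiAffine f) {F : X.Modules} (hF : Coh.IsQCoh F) :
    Epi ((Scheme.Modules.pullbackPushforwardAdjunction f).counit.app F) := by
  let adj := Scheme.Modules.pullbackPushforwardAdjunction f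
  refine ⟨fun {Z} φ ψ hh => ?_⟩
  have hpush : ∀ χ : F ⟶ Z, adj.unit.app _ ≫ (Scheme.Modules.pushforward f).map (adj.counit.app _ ≫ χ) =
      (Scheme.Modules.pushforward f).map χ := fun χ => by
    rw [(Scheme.Modules.pushforward f).map_comp]
    exact adj.right_triangle_components_assoc _ _
  have heq : (Scheme.Modules.pushforward f).map φ = (Scheme.Modules.pushforward f).map ψ := by
    rw [← hpush φ, ← hpush ψ]
    exact congrArg (fun χ => adj.unit.app _ ≫ (Scheme.Modules.pushforward f).map χ) hh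
  refine H23.ModLoc.hom_ext_of_locally φ ψ fun x => ?_
  obtain ⟨V, hV, hxV⟩ := QCoh.exists_affine_mem (f x)
  haveI := h.2 V hV
  let W := f ⁻¹ᵁ V
  refine ⟨W, hxV, hom_ext_of_isGloballyGenerated
    (AmpleX.isGloballyGenerated_of_isQuasiAffine (QCoh.isQCoh_restrict W.ι hF)) _ _ ?_⟩
  have key : ∀ t, φ.app (W.ι ''ᵁ ⊤) t = ψ.app (W.ι ''ᵁ ⊤) t := by
    rw [W.ι_image_top]
    exact fun t => congr(($heq).app V t)
  exact key

/-- Epimorphic counits give quasi-affine morphisms. -/
theorem isQuasiAffine_of_counit [QuasiCompact f] [QuasiSeparated f]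
    (h : ∀ F : X.Modules, Coh.IsQCoh F → Epi ((Scheme.Modules.pullbackPushforwardAdjunction f).counit.app F)) :
    Mor2.IsQuasiAffine f := by
  refine ⟨inferInstance, fun V hV => ?_⟩
  let W := f ⁻¹ᵁ V
  haveI : CompactSpace W.toScheme := isCompact_iff_compactSpace.1 (f.isCompact_preimage hV.isCompact)
  refine Scheme.IsQuasiAffine.of_forall_exists_mem_basicOpen _ fun x => ?_
  obtain ⟨U, hU, hxU⟩ := QCoh.exists_affine_mem x
  let Z : Set X := (W.ι '' (U : Set W.toScheme)ᶜ)
  let J := QCoh.vanIdeal Z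
  haveI := h _ (QCoh.isQCoh_vanIdeal Z)
  have hgen := CounitEpi.generated_of_counit_epi f (QCoh.isQCoh_vanIdeal Z) ⟨V, hV⟩ x
  obtain ⟨e, he⟩ := QCoh.SerreEpi.exists_vanIdeal_restrict W.ι (U : Set W.toScheme)ᶜ
  let K := QCoh.vanIdeal (U : Set W.toScheme)ᶜ
  let φ : J.toModules.restrict W.ι ⟶ Coh.structureModule W.toScheme := e.hom ≫ K.ι
  by_contra! hno
  have hmem : ∀ t, W.toScheme.basicOpen (QCoh.toFn (φ.app ⊤ t)) ≤ U := fun t z hz => by
    by_contra hzU
    exact K.ι_app_mem ⊤ (e.hom.app ⊤ t) z hzU hz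
  have hvan : ∀ t, W.toScheme.presheaf.germ ⊤ x trivial (QCoh.toFn (φ.app ⊤ t)) ∈
      IsLocalRing.maximalIdeal (W.toScheme.presheaf.stalk x) := fun t => by
    refine (QCoh.notMem_basicOpen_iff (QCoh.toFn (φ.app ⊤ t)) x trivial).1 (hno _ ?_)
    have := Scheme.basicOpen_res W.toScheme (QCoh.toFn (φ.app ⊤ t)) (homOfLE (le_top : U ≤ ⊤)).op
    rw [inf_eq_right.2 (hmem t)] at this
    rw [← this]
    exact hU.basicOpen _
  let f' := (KFlatLib.stalkP x).map (DCoh.toP.map φ)
  let P := Submodule.comap f'.hom (vanAt (Coh.structureModule W.toScheme) x)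
  obtain ⟨w, hw⟩ := K.exists_app_eq (U := U)
    (s := (show Γ(Coh.structureModule W.toScheme, U) from (1 : Γ(W.toScheme, U))))
    (fun z hz hzb => hz (W.toScheme.basicOpen_le _ hzb))
  have hfr : IsFrame (show Γ(Coh.structureModule W.toScheme, U) from (1 : Γ(W.toScheme, U))) := isFrame_one U
  have h1 : germM _ hxU (show Γ(Coh.structureModule W.toScheme, U) from (1 : Γ(W.toScheme, U))) ∈
      vanAt (Coh.structureModule W.toScheme) x := by
    have hm : germM _ hxU (e.inv.app U w) ∈ P := by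
      refine Submodule.span_le.2 ?_ (hgen.ge Submodule.mem_top)
      rintro _ ⟨t, rfl⟩
      show f'.hom (germM _ (show x ∈ (⊤ : W.toScheme.Opens) from trivial) t) ∈ vanAt _ x
      have ha : f'.hom (germM _ (show x ∈ (⊤ : W.toScheme.Opens) from trivial) t) =
          germM _ (show x ∈ (⊤ : W.toScheme.Opens) from trivial) (φ.app ⊤ t) :=
        KFlatLib.stalkModMap_germ (DCoh.toP.map φ) ⊤ trivial t
      rw [ha, show φ.app ⊤ t = QCoh.toFn (φ.app ⊤ t) •
        (show Γ(Coh.structureModule W.toScheme, ⊤) from (1 : Γ(W.toScheme, ⊤))) from (fn_smul_one (φ.app ⊤ t)).symm]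
      have hs := KFlatLib.germP_smul (P := DCoh.toP.obj (Coh.structureModule W.toScheme)) ⊤
        (show x ∈ (⊤ : W.toScheme.Opens) from trivial) (QCoh.toFn (φ.app ⊤ t))
        (show Γ(Coh.structureModule W.toScheme, ⊤) from (1 : Γ(W.toScheme, ⊤)))
      exact (congrArg (fun z => z ∈ vanAt (Coh.structureModule W.toScheme) x) hs).mpr (Submodule.smul_mem_smul (hvan t) trivial)
    have hb : f'.hom (germM _ hxU (e.inv.app U w)) =
        germM _ hxU (show Γ(Coh.structureModule W.toScheme, U) from (1 : Γ(W.toScheme, U))) := by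
      refine (KFlatLib.stalkModMap_germ (DCoh.toP.map φ) U hxU _).trans (congrArg (germM _ hxU) ?_)
      show K.ι.app U (e.hom.app U (e.inv.app U w)) = _
      rw [← hw]
      exact congrArg _ (congr(($(e.inv_hom_id)).app U w))
    exact hb ▸ hm
  have h2 := coord_mem_maximalIdeal hxU hfr (one_smul Γ(W.toScheme, U) _).symm h1
  rw [map_one] at h2
  exact (IsLocalRing.maximalIdeal.isMaximal (W.toScheme.presheaf.stalk x)).ne_top ((Ideal.eq_top_iff_one _).2 h2)

end Groth.Agent.AmpleVan.QAEpi
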